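import Groth.Agent.H68.RectDepth
import Groth.Agent.H95.DVRFibre
import Groth.Agent.Lib.Excellent.Localization
import Groth.Agent.Lib.Cyc.CH.Setup
import Groth.Agent.Lib.Cyc.Ord
import Groth.Agent.Lib.Cyc.FieldDim
import Groth.Agent.Lib.Cyc.Residue
import Mathlib.AlgebraicGeometry.Fiber

/-!
# Specialization of cycles over a discrete valuation ring: the standing data
-/

set_option autoImplicit false
set_option linter.style.haveILetI false
universe u

open CategoryTheory CategoryTheory.Limits AlgebraicGeometry IsLocalRing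

noncomputable section

namespace Groth.Agent.Lib.Cyc.Sp

open Groth.Agent.Lib Groth.Agent.Lib.Cyc

variable (R : Type u) [CommRing R] [IsDomain R] [IsDiscreteValuationRing R]

/-- The generic point. -/
abbrev η : Spec (CommRingCat.of R) := genericPoint ↥(Spec (CommRingCat.of R))

/-- The closed point. -/
abbrev s₀ : Spec (CommRingCat.of R) := IsLocalRing.closedPoint R

theorem η_eq : η R = (⟨⊥, Ideal.isPrime_bot⟩ : PrimeSpectrum R) := genericPoint_eq_bot_of_affine _

theorem eq_or (z : Spec (CommRingCat.of R)) : z = η R ∨ z = s₀ R := by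
  rw [η_eq]
  by_cases h : (z : PrimeSpectrum R).asIdeal = ⊥
  · exact Or.inl (PrimeSpectrum.ext h)
  · exact Or.inr (PrimeSpectrum.ext (IsLocalRing.eq_maximalIdeal
      (IsPrime.to_maximal_ideal (hpi := (z : PrimeSpectrum R).isPrime) h)))

theorem η_ne : η R ≠ s₀ R := fun h => by
  rw [η_eq] at h
  exact IsDiscreteValuationRing.not_isField R ((IsLocalRing.isField_iff_maximalIdeal_eq).2
    (congrArg PrimeSpectrum.asIdeal h).symm)

/-- The dimension function of the base. -/
def δR (z : Spec (CommRingCat.of R)) : ℤ := by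
  classical
  exact if z = s₀ R then 0 else 1

theorem δR_η : δR R (η R) = 1 := by rw [δR, if_neg (η_ne R)]

theorem δR_s : δR R (s₀ R) = 0 := by rw [δR, if_pos rfl]

theorem isSetup : Cyc.IsSetup (Spec (CommRingCat.of R)) (δR R) := by
  refine ⟨inferInstance, fun z => ?_, fun x y h hne => ?_⟩
  · let p : PrimeSpectrum R := z
    have h : CAlg.IsUniversallyCatenary ((Spec.structureSheaf R).presheaf.stalk p) :=
      Excellent.Localization.isUniversallyCatenary_of_isLocalization p.asIdeal.primeCompl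
        (H68.RectDepth.isUniversallyCatenary_of_regular R)
    exact h
  · rcases eq_or R x with rfl | rfl <;> rcases eq_or R y with rfl | rfl
    · exact absurd rfl hne
    · rw [δR_η, δR_s]
      exact ⟨zero_lt_one, fun _ => rfl⟩
    · exact absurd (h.antisymm (genericPoint_specializes _)).eq hne
    · exact absurd rfl hne

/-- A uniformizer. -/
def ϖ : R := (IsDiscreteValuationRing.exists_irreducible R).choose

theorem irreducible_ϖ : Irreducible (ϖ R) := (IsDiscreteValuationRing.exists_irreducible R).choose_spec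

theorem isUnit_toStalk (p : PrimeSpectrum R) (h : ϖ R ∉ p.asIdeal) :
    IsUnit ((StructureSheaf.toStalk R p).hom (ϖ R)) :=
  (IsLocalization.AtPrime.isUnit_to_map_iff ((Spec.structureSheaf R).presheaf.stalk p) p.asIdeal (ϖ R)).2 h

theorem stalk_max (z : Spec (CommRingCat.of R)) (h : (z : PrimeSpectrum R).asIdeal = maximalIdeal R) :
    maximalIdeal ((Spec (CommRingCat.of R)).presheaf.stalk z) =
      Ideal.span {(StructureSheaf.toStalk R z).hom (ϖ R)} := by
  let p : PrimeSpectrum R := z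
  haveI : IsLocalRing ((Spec.structureSheaf R).presheaf.stalk p) :=
    inferInstanceAs (IsLocalRing ((Spec (CommRingCat.of R)).presheaf.stalk z))
  refine (IsLocalization.AtPrime.map_eq_maximalIdeal p.asIdeal
    ((Spec.structureSheaf R).presheaf.stalk p)).symm.trans ?_
  rw [show p.asIdeal = maximalIdeal R from h,
    (IsDiscreteValuationRing.irreducible_iff_uniformizer (ϖ R)).1 (irreducible_ϖ R), Ideal.map_span,
    Set.image_singleton]
  rfl

variable {R} {X : Scheme.{u}} (a : X ⟶ Spec (CommRingCat.of R))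

/-- The uniformizer in the local ring. -/
def t (y : X) : X.presheaf.stalk y :=
  (a.stalkMap y).hom ((StructureSheaf.toStalk R (a y)).hom (ϖ R))

theorem isUnit_t {y : X} (h : a y = η R) : IsUnit (t a y) := by
  refine IsUnit.map _ (isUnit_toStalk R (a y) ?_)
  show ϖ R ∉ (a y : PrimeSpectrum R).asIdeal
  rw [show (a y : PrimeSpectrum R) = ⟨⊥, Ideal.isPrime_bot⟩ from h.trans (η_eq R)]
  exact (irreducible_ϖ R).ne_zero

theorem max_map {y : X} (h : a y = s₀ R) :
    (maximalIdeal ((Spec (CommRingCat.of R)).presheaf.stalk (a y))).map (a.stalkMap y).hom =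
      Ideal.span {t a y} := by
  refine (congrArg (Ideal.map (a.stalkMap y).hom)
    (stalk_max R (a y) (congrArg PrimeSpectrum.asIdeal h))).trans ?_
  exact (Ideal.map_span _ _).trans (congrArg Ideal.span Set.image_singleton)

theorem t_mem {y : X} (h : a y = s₀ R) : t a y ∈ maximalIdeal (X.presheaf.stalk y) := by
  refine (?_ : Ideal.span {t a y} ≤ _) (Ideal.subset_span rfl)
  rw [← max_map a h]
  exact Ideal.map_le_iff_le_comap.2 fun r hr => (IsLocalRing.mem_maximalIdeal _).2 fun hu =>
    (IsLocalRing.mem_maximalIdeal r).1 hr (isUnit_of_map_unit (a.stalkMap y).hom r hu)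

theorem t_specializes {y q : X} (h : q ⤳ y) : X.presheaf.stalkSpecializes h (t a y) = t a q := by
  show X.presheaf.stalkSpecializes h (a.stalkMap y _) = a.stalkMap q _
  rw [← CategoryTheory.comp_apply, ← Scheme.Hom.stalkSpecializes_stalkMap, CategoryTheory.comp_apply]
  congr 1
  exact ConcreteCategory.congr_hom (StructureSheaf.toStalk_stalkSpecializes (h.map a.continuous)) (ϖ R)

theorem specMap_t_ne_zero {y q : X} (h : q ⤳ y) (hq : a q = η R) : Cyc.specMap y q h (t a y) ≠ 0 := by
  show X.residue q (X.presheaf.stalkSpecializes h (t a y)) ≠ 0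
  rw [t_specializes]
  exact ((isUnit_t a hq).map _).ne_zero

/-- The weights on the two fibres come from one dimension function on the total space. -/
structure Data (D : X → ℤ) (δη : ↥(a.fiber (η R)) → ℤ) (δs : ↥(a.fiber (s₀ R)) → ℤ) : Prop where
  setup : Cyc.IsSetup X D
  compat : Cyc.DeltaCompat a D (δR R)
  gen : ∀ ζ, D (a.fiberι (η R) ζ) = δη ζ + 1
  spec : ∀ x, D (a.fiberι (s₀ R) x) = δs x

theorem a_fiberι (z : Spec (CommRingCat.of R)) (x : ↥(a.fiber z)) : a (a.fiberι z x) = z := by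
  have h : a.fiberι z x ∈ Set.range ⇑(a.fiberι z) := ⟨x, rfl⟩
  rw [Scheme.Hom.range_fiberι] at h
  exact h

theorem trdegAt_fiber (z : Spec (CommRingCat.of R)) (x : ↥(a.fiber z)) :
    Residue.trdegAt a (a.fiberι z x) = Residue.trdegAt (a.fiberToSpecResidueField z) x := by
  have h := FieldDim.trdegAt_congr
    (show a.fiberι z ≫ a = a.fiberToSpecResidueField z ≫ Scheme.fromSpecResidueField _ z from
      pullback.condition) x
  rwa [Residue.trdegAt_comp, Residue.trdegAt_comp,
    FieldDim.trdegAt_eq_zero_of_surjective _ _ (FieldDim.residueFieldMap_surjective (f := a.fiberι z) _),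
    FieldDim.trdegAt_eq_zero_of_surjective _ _ (FieldDim.residueFieldMap_surjective
      (f := (Spec (CommRingCat.of R)).fromSpecResidueField z) _), add_zero, zero_add] at h

theorem exists_data [LocallyOfFiniteType a] {δη : ↥(a.fiber (η R)) → ℤ} {δs : ↥(a.fiber (s₀ R)) → ℤ}
    (hη : Cyc.DeltaCompat (a.fiberToSpecResidueField (η R)) δη (fun _ => 0))
    (hs : Cyc.DeltaCompat (a.fiberToSpecResidueField (s₀ R)) δs (fun _ => 0)) :
    ∃ D, Data a D δη δs := by
  obtain ⟨D, hD, hc⟩ := CH.exists_setup a (isSetup R)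
  refine ⟨D, hD, hc, fun ζ => ?_, fun x => ?_⟩
  · obtain ⟨m, hm, hm'⟩ := Residue.exists_trdegAt hc (a.fiberι (η R) ζ)
    obtain ⟨n, hn, hn'⟩ := Residue.exists_trdegAt hη ζ
    rw [trdegAt_fiber a, hn] at hm
    rw [a_fiberι a, δR_η] at hm'
    rw [hn', hm', show n = m by exact_mod_cast hm]
    ring
  · obtain ⟨m, hm, hm'⟩ := Residue.exists_trdegAt hc (a.fiberι (s₀ R) x)
    obtain ⟨n, hn, hn'⟩ := Residue.exists_trdegAt hs x
    rw [trdegAt_fiber a, hn] at hm
    rw [a_fiberι a, δR_s] at hm'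
    rw [hn', hm', show n = m by exact_mod_cast hm]

theorem fiberι_injective (z : Spec (CommRingCat.of R)) : Function.Injective ⇑(a.fiberι z) :=
  (a.fiberι z).isEmbedding.injective

theorem exists_fiber {z : Spec (CommRingCat.of R)} {q : X} (h : a q = z) :
    ∃ ζ, a.fiberι z ζ = q := by
  have h' : q ∈ Set.range ⇑(a.fiberι z) := by rw [Scheme.Hom.range_fiberι]; exact h
  exact h'

open Classical in
/-- The multiplicity of `t` along the closure of `q` at `y`. -/
def mult (D : X → ℤ) (r : ℤ) (y q : X) : ℤ :=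
  if h : q ⤳ y ∧ D q = r + 1 ∧ a q = η R then Cyc.ordAt y q h.1 (Cyc.specMap y q h.1 (t a y)) else 0

variable {D : X → ℤ} {δη : ↥(a.fiber (η R)) → ℤ} {δs : ↥(a.fiber (s₀ R)) → ℤ}

variable {a}

theorem spFun_apply [LocallyOfFiniteType a] (hd : Data a D δη δs) (r : ℤ) (α : ↥(a.fiber (η R)) → ℤ)
    (x : ↥(a.fiber (s₀ R))) (hx : δs x = r) :
    Cyc.spFun a (η R) (s₀ R) δη δs r α x =
      ∑ᶠ ζ, α ζ * mult a D r (a.fiberι (s₀ R) x) (a.fiberι (η R) ζ) := by
  classical
  haveI := hd.setup.1
  have hy : D (a.fiberι (s₀ R) x) = r := by rw [hd.spec, hx]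
  unfold Cyc.spFun
  rw [if_pos hx]
  let G : ↥(a.fiber (η R)) → ℤ := fun ζ => α ζ * mult a D r (a.fiberι (s₀ R) x) (a.fiberι (η R) ζ)
  refine Eq.trans ?_ (finsum_subtype_eq_finsum_cond (f := G)
    (fun ζ => δη ζ = r ∧ a.fiberι (η R) ζ ⤳ a.fiberι (s₀ R) x) |>.trans ?_)
  · refine finsum_congr fun ζ => ?_
    have hc : a.fiberι (η R) ζ.1 ⤳ a.fiberι (s₀ R) x ∧ D (a.fiberι (η R) ζ.1) = r + 1 ∧
        a (a.fiberι (η R) ζ.1) = η R :=
      ⟨ζ.2.2, by rw [hd.gen, ζ.2.1], a_fiberι a _ _⟩
    show _ = α ζ.1 * mult a D r _ _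
    rw [mult, dif_pos hc, Ord.ordAt_specMap hd.setup.2.2 _ _ hc.1 (by rw [hc.2.1, hy]) _
      (specMap_t_ne_zero a hc.1 hc.2.2), Ring.ord]
    congr 3
    rw [← Ideal.map_map, max_map a (a_fiberι a _ x), Ideal.map_span, Set.image_singleton]
    exact Module.length_eq_of_surjective Ideal.Quotient.mk_surjective
  · refine finsum_congr fun ζ => ?_
    rw [finsum_eq_if]
    refine ite_eq_left_iff.2 fun hn => ?_
    show 0 = α ζ * mult a D r _ _
    rw [mult, dif_neg fun h => hn ⟨by have := h.2.1; rw [hd.gen] at this; linarith, h.1⟩, mul_zero]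

theorem spFun_eq_zero (r : ℤ) (α : ↥(a.fiber (η R)) → ℤ) (x : ↥(a.fiber (s₀ R))) (hx : δs x ≠ r) :
    Cyc.spFun a (η R) (s₀ R) δη δs r α x = 0 := if_neg hx

end Groth.Agent.Lib.Cyc.Sp
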