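import Groth.Agent.Lib.Cyc.Sp.Sheaf
import Groth.Agent.Lib.Cyc.FP.Stalk
import Groth.Agent.Lib.Cyc.PB.FrameDim
import Groth.Agent.H52.FBase.BCReducedStalk
import Mathlib.RingTheory.Flat.TorsionFree
import Mathlib.LinearAlgebra.TensorProduct.Quotient

/-!
# Stalks on the two fibres over a discrete valuation ring
-/

set_option autoImplicit false
set_option linter.style.haveILetI false
universe u

open CategoryTheory CategoryTheory.Limits AlgebraicGeometry IsLocalRing
open scoped TensorProduct

noncomputable section

namespace Groth.Agent.Lib.Cyc.Sp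

open Groth.Agent.Lib Groth.Agent.Lib.Cyc

variable {R : Type u} [CommRing R] [IsDomain R] [IsDiscreteValuationRing R] {X : Scheme.{u}}
  (a : X ⟶ Spec (CommRingCat.of R))

instance isOpenImmersion_fiberι : IsOpenImmersion (a.fiberι (η R)) := by
  have h : IsOpenImmersion ((Spec (CommRingCat.of R)).fromSpecResidueField (η R)) := by
    rw [η_eq]
    exact H95.DVRFibre.isOpenImmersion_generic
  exact MorphismProperty.pullback_fst (P := @IsOpenImmersion) a _ h

instance isClosedImmersion_fiberι : IsClosedImmersion (a.fiberι (s₀ R)) := by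
  have h : IsClosedImmersion ((Spec (CommRingCat.of R)).fromSpecResidueField (s₀ R)) :=
    isClosed_singleton_iff_isClosedImmersion.1 ((PrimeSpectrum.isClosed_singleton_iff_isMaximal _).2
      (IsLocalRing.maximalIdeal.isMaximal R))
  exact MorphismProperty.pullback_fst (P := @IsClosedImmersion) a _ h

theorem ker_special (x : ↥(a.fiber (s₀ R))) :
    RingHom.ker ((a.fiberι (s₀ R)).stalkMap x).hom = Ideal.span {t a (a.fiberι (s₀ R) x)} := by
  have H : IsPullback (a.fiberι (s₀ R)) (a.fiberToSpecResidueField (s₀ R)) a
      ((Spec (CommRingCat.of R)).fromSpecResidueField (s₀ R)) := IsPullback.of_hasPullback _ _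
  have hz : IsField ((Spec ((Spec (CommRingCat.of R)).residueField (s₀ R))).presheaf.stalk
      (a.fiberToSpecResidueField (s₀ R) x)) := by
    haveI : IsIntegral (Spec ((Spec (CommRingCat.of R)).residueField (s₀ R))) := inferInstance
    rw [Subsingleton.elim (a.fiberToSpecResidueField (s₀ R) x) (genericPoint _)]
    exact Field.toIsField (Spec ((Spec (CommRingCat.of R)).residueField (s₀ R))).functionField
  rw [H52.FBase.BCReducedStalk.ker_stalkMap H x hz, max_map a (a_fiberι a _ x)]

/-- Lengths on the closed fibre. -/
theorem length_special (F : X.Modules) (x : ↥(a.fiber (s₀ R))) :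
    Module.length ((a.fiber (s₀ R)).presheaf.stalk x)
        (((Scheme.Modules.pullback (a.fiberι (s₀ R))).obj F).presheaf.stalk x) =
      Module.length (X.presheaf.stalk (a.fiberι (s₀ R) x)) (F.presheaf.stalk (a.fiberι (s₀ R) x) ⧸
        (Ideal.span {t a (a.fiberι (s₀ R) x)} •
          (⊤ : Submodule (X.presheaf.stalk (a.fiberι (s₀ R) x))
            (F.presheaf.stalk (a.fiberι (s₀ R) x))))) := by
  set i := a.fiberι (s₀ R) with hi
  set A := X.presheaf.stalk (i x)
  set M := F.presheaf.stalk (i x)
  letI := (i.stalkMap x).hom.toAlgebra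
  have hsurj : Function.Surjective (algebraMap A ((a.fiber (s₀ R)).presheaf.stalk x)) :=
    i.stalkMap_surjective x
  have h : Module.length ((a.fiber (s₀ R)).presheaf.stalk x)
      ((a.fiber (s₀ R)).presheaf.stalk x ⊗[A] M) =
      Module.length ((a.fiber (s₀ R)).presheaf.stalk x)
        (((Scheme.Modules.pullback i).obj F).presheaf.stalk x) :=
    (asIso ((DerivedOX.PullbackStalk.comparison i x).app F)).toLinearEquiv.length_eq
  rw [← h, ← Module.length_eq_of_surjective (S := A) hsurj]
  have hker : RingHom.ker (Algebra.ofId A ((a.fiber (s₀ R)).presheaf.stalk x)) =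
      Ideal.span {t a (i x)} := ker_special a x
  let e := (Ideal.quotientEquivAlgOfEq A hker).symm.trans
    (Ideal.quotientKerAlgEquivOfSurjective (f := Algebra.ofId A ((a.fiber (s₀ R)).presheaf.stalk x)) hsurj)
  exact ((TensorProduct.congr e.symm.toLinearEquiv (LinearEquiv.refl A M)).trans
    (TensorProduct.quotTensorEquivQuotSMul M (Ideal.span {t a (i x)}))).length_eq

/-- Lengths on the generic fibre. -/
theorem length_generic [IsLocallyNoetherian X] (F : X.Modules) (ζ : ↥(a.fiber (η R))) :
    Module.length ((a.fiber (η R)).presheaf.stalk ζ)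
        (((Scheme.Modules.pullback (a.fiberι (η R))).obj F).presheaf.stalk ζ) =
      Module.length (X.presheaf.stalk (a.fiberι (η R) ζ)) (F.presheaf.stalk (a.fiberι (η R) ζ)) := by
  haveI : IsLocallyNoetherian (a.fiber (η R)) :=
    LocallyOfFiniteType.isLocallyNoetherian (a.fiberι (η R))
  rw [FP.Stalk.length_pullback_stalk, PB.Frame.fibLen_openImm, mul_one]

theorem nzd_of_domain {A : Type*} [CommRing A] (h : IsDomain A) {x : A} (hx : x ≠ 0) :
    x ∈ nonZeroDivisors A :=
  mem_nonZeroDivisors_of_ne_zero hx

/-- A module flat over the base has no `t`-torsion. -/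
theorem t_injective {F : X.Modules} (hflat : FlatMod.IsFlatOver a F) (y : X) :
    Function.Injective fun v : F.presheaf.stalk y => t a y • v := by
  letI := FlatMod.moduleStalkOver a F y
  haveI : Module.Flat ((Spec (CommRingCat.of R)).presheaf.stalk (a y)) (F.presheaf.stalk y) := hflat y
  have hreg : ∀ p : PrimeSpectrum R, (StructureSheaf.toStalk R p).hom (ϖ R) ∈
      nonZeroDivisors ((Spec.structureSheaf R).presheaf.stalk p) := fun p => by
    have : IsDomain ((Spec.structureSheaf R).presheaf.stalk p) :=
      IsLocalization.isDomain_of_atPrime (A := R) _ p.asIdeal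
    refine nzd_of_domain this fun h => (irreducible_ϖ R).ne_zero
      (IsLocalization.injective ((Spec.structureSheaf R).presheaf.stalk p)
        p.asIdeal.primeCompl_le_nonZeroDivisors (h.trans (map_zero _).symm))
  exact Module.Flat.isSMulRegular_of_nonZeroDivisors (M := F.presheaf.stalk y)
    (R := (Spec (CommRingCat.of R)).presheaf.stalk (a y)) (hreg (a y))

end Groth.Agent.Lib.Cyc.Sp
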