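import Groth.Agent.Lib.Cyc.Sp.Basic
import Groth.Agent.Lib.Cyc.PP.StalkSum
import Mathlib.RingTheory.Ideal.AssociatedPrime.Localization

/-!
# Specialization of the cycle of a sheaf without torsion over the base
-/

set_option autoImplicit false
set_option linter.style.haveILetI false
universe u

open CategoryTheory CategoryTheory.Limits AlgebraicGeometry IsLocalRing

noncomputable section

namespace Groth.Agent.Lib.Cyc.Sp

open Groth.Agent.Lib Groth.Agent.Lib.Cyc

variable {R : Type u} [CommRing R] [IsDomain R] [IsDiscreteValuationRing R] {X : Scheme.{u}}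
  {a : X ⟶ Spec (CommRingCat.of R)} [LocallyOfFiniteType a] {D : X → ℤ}
  {δη : ↥(a.fiber (η R)) → ℤ} {δs : ↥(a.fiber (s₀ R)) → ℤ}

/-- A point of the closed fibre in the support generalizes to a point of the generic fibre in the
support. -/
theorem exists_gen_supp (hd : Data a D δη δs) {F : X.Modules} (hF : Coh.IsCoh F) {y : X}
    (hy : a y = s₀ R) (hinj : Function.Injective fun v : F.presheaf.stalk y => t a y • v)
    (hnt : Nontrivial (F.presheaf.stalk y)) :
    ∃ q, q ⤳ y ∧ q ≠ y ∧ a q = η R ∧ Nontrivial (F.presheaf.stalk q) := by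
  haveI := hd.setup.1
  haveI := hF.2
  haveI : Module.Finite (X.presheaf.stalk y) (F.presheaf.stalk y) := Modules.GenStalk.finite_stalk F y
  have hann : Module.annihilator (X.presheaf.stalk y) (F.presheaf.stalk y) ≠ ⊤ := fun h =>
    not_subsingleton_iff_nontrivial.2 hnt ⟨fun v w => by
      have h1 : (1 : X.presheaf.stalk y) ∈ Module.annihilator _ (F.presheaf.stalk y) := h ▸ trivial
      rw [← one_smul (X.presheaf.stalk y) v, ← one_smul (X.presheaf.stalk y) w,
        Module.mem_annihilator.1 h1, Module.mem_annihilator.1 h1]⟩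
  obtain ⟨p, hp, -⟩ := Ideal.exists_minimalPrimes_le (IsLocalRing.le_maximalIdeal hann)
  have hnot : t a y ∉ p := fun hm => by
    have h1 : t a y ∈ ⋃ q ∈ associatedPrimes (X.presheaf.stalk y) (F.presheaf.stalk y), (q : Set _) :=
      Set.mem_biUnion (Module.associatedPrimes.minimalPrimes_annihilator_subset_associatedPrimes _ _ hp) hm
    rw [biUnion_associatedPrimes_eq_compl_regular] at h1
    exact h1 hinj
  let 𝔮 : PrimeSpectrum (X.presheaf.stalk y) := ⟨p, hp.1.1⟩
  obtain ⟨q, hqy, e⟩ : ∃ (q : X) (h : q ⤳ y), 𝔮 = DimFun.genPrime y q h :=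
    ⟨_, _, DimFun.eq_genPrime y 𝔮⟩
  have haq : a q = η R := (eq_or R (a q)).resolve_right fun h => hnot (by
    show t a y ∈ 𝔮.asIdeal
    rw [e]
    show X.residue q (X.presheaf.stalkSpecializes hqy (t a y)) = 0
    rw [t_specializes]
    exact (IsLocalRing.residue_eq_zero_iff _).2 (t_mem a h))
  refine ⟨q, hqy, fun h => η_ne R (haq.symm.trans (by rw [h, hy])), haq, ?_⟩
  have hs : 𝔮 ∈ Module.support (X.presheaf.stalk y) (F.presheaf.stalk y) := by
    rw [Module.support_eq_zeroLocus]
    exact hp.1.2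
  rw [e, Module.mem_support_iff, ← not_subsingleton_iff_nontrivial,
    ← Module.length_eq_zero_iff (R := Localization.AtPrime (DimFun.genPrime y q hqy).asIdeal),
    PP.StalkLocal.length_localized hF hqy, Module.length_eq_zero_iff, not_subsingleton_iff_nontrivial] at hs
  exact hs

theorem le_of_nontrivial (hd : Data a D δη δs) {F : X.Modules} (hF : Coh.IsCoh F) {r : ℤ}
    (hdim : ∀ q, a q = η R → Nontrivial (F.presheaf.stalk q) → D q ≤ r + 1) {y : X}
    (hy : a y = s₀ R) (hinj : Function.Injective fun v : F.presheaf.stalk y => t a y • v)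
    (hnt : Nontrivial (F.presheaf.stalk y)) : D y ≤ r := by
  obtain ⟨q, hqy, hne, haq, hq⟩ := exists_gen_supp hd hF hy hinj hnt
  have := DimFun.lt_of_specializes hd.setup.2.2 hqy hne
  have := hdim q haq hq
  omega

/-- The specialization of the cycle of `F` on the generic fibre. -/
theorem spFun_sheaf (hd : Data a D δη δs) {F : X.Modules} (hF : Coh.IsCoh F) {r : ℤ}
    (hinj : ∀ y, a y = s₀ R → Function.Injective fun v : F.presheaf.stalk y => t a y • v)
    (hdim : ∀ q, a q = η R → Nontrivial (F.presheaf.stalk q) → D q ≤ r + 1)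
    (β : ↥(a.fiber (η R)) → ℤ)
    (hβ : ∀ ζ, δη ζ = r → β ζ = ((Module.length (X.presheaf.stalk (a.fiberι (η R) ζ))
      (F.presheaf.stalk (a.fiberι (η R) ζ))).toNat : ℤ))
    (x : ↥(a.fiber (s₀ R))) (hx : δs x = r) :
    Cyc.spFun a (η R) (s₀ R) δη δs r β x =
      ((Module.length (X.presheaf.stalk (a.fiberι (s₀ R) x)) (F.presheaf.stalk (a.fiberι (s₀ R) x) ⧸
        (Ideal.span {t a (a.fiberι (s₀ R) x)} •
          (⊤ : Submodule (X.presheaf.stalk (a.fiberι (s₀ R) x))
            (F.presheaf.stalk (a.fiberι (s₀ R) x)))))).toNat : ℤ) := by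
  classical
  haveI := hd.setup.1
  rw [spFun_apply hd r β x hx]
  set y := a.fiberι (s₀ R) x with hy
  have hay : a y = s₀ R := a_fiberι a _ x
  have hDy : D y = r := by rw [hy, hd.spec, hx]
  have hle : ∀ q, q ⤳ y → Nontrivial (F.presheaf.stalk q) → D q ≤ r + 1 := fun q _ hq => by
    rcases eq_or R (a q) with h | h
    · exact hdim q h hq
    · have := le_of_nontrivial hd hF hdim h (hinj q h) hq
      omega
  have hgen : ∀ q, q ⤳ y → D q = r + 1 → Nontrivial (F.presheaf.stalk q) → a q = η R :=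
    fun q _ hq hnt => (eq_or R (a q)).resolve_right fun h => by
      have := le_of_nontrivial hd hF hdim h (hinj q h) hnt
      omega
  have key := PP.StalkSum.length_quot hd.setup.2.2 hF hDy (t a y)
    ((IsLocalRing.mem_maximalIdeal _).1 (t_mem a hay)) hle
    (fun q h hq hnt => specMap_t_ne_zero a h (hgen q h hq hnt)) (hinj y hay)
  rw [key]
  have hsupp : Function.support (fun q => PP.StalkSum.term D r F y (t a y) q) ⊆
      Set.range ⇑(a.fiberι (η R)) := fun q hq => by
    by_cases h : q ⤳ y ∧ D q = r + 1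
    · refine exists_fiber a (hgen q h.1 h.2 (not_subsingleton_iff_nontrivial.1 fun hs => hq ?_))
      show PP.StalkSum.term D r F y (t a y) q = 0
      rw [PP.StalkSum.term, dif_pos h, Module.length_eq_zero_iff.2 hs]
      simp
    · exact absurd (dif_neg h) hq
  refine Eq.trans ?_ ((finsum_mem_range (fiberι_injective a (η R))).symm.trans
    ((finsum_mem_inter_support_eq _ _ Set.univ ?_).trans (finsum_mem_univ _)))
  swap
  · rw [Set.univ_inter, Set.inter_eq_right.2 hsupp]
  refine finsum_congr fun ζ => ?_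
  unfold PP.StalkSum.term mult
  by_cases h : a.fiberι (η R) ζ ⤳ y ∧ D (a.fiberι (η R) ζ) = r + 1
  · have hne := specMap_t_ne_zero a h.1 (a_fiberι a _ ζ)
    rw [dif_pos ⟨h.1, h.2, a_fiberι a _ ζ⟩, dif_pos h,
      Ord.ordAt_specMap hd.setup.2.2 y _ h.1 (by rw [h.2, hDy]) _ hne,
      hβ ζ (by have := h.2; rw [hd.gen] at this; linarith)]
  · rw [dif_neg fun h' => h ⟨h'.1, h'.2.1⟩, dif_neg h, mul_zero]

end Groth.Agent.Lib.Cyc.Sp
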